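import Groth.Agent.CGrpSh.K731.HNil
import Groth.Agent.TateGlob.K828.LimitBig
import Groth.Agent.TateGlob.K828.LpPts
import Groth.Agent.TateGlob.K827.Abs
import Groth.Agent.AlgSp.K602.RingColim
import Groth.Agent.TateLoc.K809.Chg
import Groth.Agent.Ega1.ReducedSub

/-!
# Restriction of `H^n_fppf(-, G)`, `G` smooth, to the closed subscheme defined by a nil ideal (helper731)

`Spec R/N` is the limit of the `Spec R/I`, `I ⊆ N` finitely generated; if `N` is nil these `I` are nilpotent.
-/

set_option autoImplicit false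
universe u
open CategoryTheory CategoryTheory.Limits AlgebraicGeometry Opposite

noncomputable section

namespace K731.NilLim

variable {R : Type u} [CommRing R] {X : Scheme.{u}} (a : Spec (CommRingCat.of R) ⟶ X)

/-- `Spec R/I` over `X`. -/
def ob (I : Ideal R) : Over X := Over.mk (Spec.map (CommRingCat.ofHom (Ideal.Quotient.mk I)) ≫ a)

/-- Functoriality. -/
def mp {I J : Ideal R} (h : I ≤ J) : ob a J ⟶ ob a I :=
  Over.homMk (Spec.map (CommRingCat.ofHom (Ideal.Quotient.factor h))) (by
    change Spec.map _ ≫ Spec.map _ ≫ a = Spec.map _ ≫ a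
    rw [← Category.assoc, ← Spec.map_comp, ← CommRingCat.ofHom_comp]
    rfl)

theorem mp_refl (I : Ideal R) (h : I ≤ I) : mp a h = 𝟙 _ := by
  apply Over.OverMorphism.ext
  change Spec.map (CommRingCat.ofHom (Ideal.Quotient.factor h)) = 𝟙 _
  have : Ideal.Quotient.factor h = RingHom.id _ := Ideal.Quotient.ringHom_ext rfl
  rw [this]
  exact Spec.map_id _

theorem mp_comp {I J L : Ideal R} (h : I ≤ J) (h' : J ≤ L) : mp a (h.trans h') = mp a h' ≫ mp a h := by
  apply Over.OverMorphism.ext
  change Spec.map _ = Spec.map _ ≫ Spec.map _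
  rw [← Spec.map_comp, ← CommRingCat.ofHom_comp]
  congr 2
  exact Ideal.Quotient.ringHom_ext rfl

variable (N : Ideal R)

/-- The finitely generated ideals contained in `N`. -/
abbrev Ix := {I : Ideal R // I.FG ∧ I ≤ N}

instance : Nonempty (Ix N) := ⟨⟨⊥, Submodule.fg_bot, bot_le⟩⟩

instance : IsDirected (Ix N) (· ≤ ·) :=
  ⟨fun I J => ⟨⟨I.1 ⊔ J.1, Submodule.FG.sup I.2.1 J.2.1, sup_le I.2.2 J.2.2⟩, le_sup_left (a := I.1), le_sup_right (a := I.1)⟩⟩

instance : IsFiltered (Ix N) := isFiltered_of_directed_le_nonempty _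

/-- The system of rings. -/
def F : Ix N ⥤ CommRingCat.{u} where
  obj I := CommRingCat.of (R ⧸ I.1)
  map {I J} f := CommRingCat.ofHom (Ideal.Quotient.factor (leOfHom f))
  map_id I := by
    have : Ideal.Quotient.factor (leOfHom (𝟙 I)) = RingHom.id _ := Ideal.Quotient.ringHom_ext rfl
    exact congrArg CommRingCat.ofHom this
  map_comp {I J L} f g := by
    rw [← CommRingCat.ofHom_comp]
    congr 1
    exact Ideal.Quotient.ringHom_ext rfl

/-- The system of schemes. -/
def D : (Ix N)ᵒᵖ ⥤ Over X where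
  obj I := ob a I.unop.1
  map f := mp a (leOfHom f.unop)
  map_id _ := mp_refl a _ _
  map_comp f g := mp_comp a (leOfHom g.unop) (leOfHom f.unop)

/-- The cocone. -/
def coc : Cocone (F N) where
  pt := CommRingCat.of (R ⧸ N)
  ι :=
    { app := fun I => CommRingCat.ofHom (Ideal.Quotient.factor I.2.2)
      naturality := fun I J f => by
        change CommRingCat.ofHom _ ≫ CommRingCat.ofHom _ = CommRingCat.ofHom _ ≫ 𝟙 _
        rw [← CommRingCat.ofHom_comp, Category.comp_id]
        congr 1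
        exact Ideal.Quotient.ringHom_ext rfl }

/-- The cone. -/
def cone : Cone (D a N) where
  pt := ob a N
  π :=
    { app := fun I => mp a I.unop.2.2
      naturality := fun I J f => by
        change 𝟙 _ ≫ mp a _ = mp a _ ≫ mp a _
        rw [Category.id_comp, ← mp_comp] }

theorem nonempty_isLimit : Nonempty (IsLimit ((Over.forget _).mapCone (cone a N))) := by
  refine K602.RingColim.nonempty_isLimit_spec (F N) (coc N) ?_ ?_
  · intro (x : R ⧸ N)
    obtain ⟨y, rfl⟩ := Ideal.Quotient.mk_surjective x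
    exact ⟨⟨⊥, Submodule.fg_bot, bot_le⟩, Ideal.Quotient.mk _ y, rfl⟩
  · intro I (y : R ⧸ I.1) hy
    obtain ⟨y, rfl⟩ := Ideal.Quotient.mk_surjective y
    have hy' : y ∈ N := Ideal.Quotient.eq_zero_iff_mem.1 hy
    refine ⟨⟨I.1 ⊔ Ideal.span {y}, Submodule.FG.sup I.2.1 (Submodule.fg_span_singleton y),
      sup_le I.2.2 ((Ideal.span_singleton_le_iff_mem _).2 hy')⟩, homOfLE (le_sup_left (a := I.1)), ?_⟩
    change Ideal.Quotient.mk (I.1 ⊔ Ideal.span {y}) y = 0
    exact Ideal.Quotient.eq_zero_iff_mem.2 (Ideal.mem_sup_right (Ideal.mem_span_singleton_self y))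

/-- Restriction along an isomorphism. -/
theorem bijective_iso {K : Precoverage Scheme.{u}} {T S : Scheme.{u}} (f : T ⟶ S) [IsIso f] (F : BigSite.Ab K S)
    (n : ℕ) : Function.Bijective (HRes.pull K f F n) := by
  let θ : Over.mk f ≅ Over.mk (𝟙 S) := Over.isoMk (asIso f) (Category.comp_id _)
  have h1 := (K809.Chg.resHU_iso_bijective F n θ).comp (K827.Abs.res_id_bijective n F)
  have h2 : (HRes.pull K f F n : _ → _) = (HRes.resHU K F n θ.hom) ∘ (HRes.res K F n (Over.mk (𝟙 S))) := by
    funext x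
    exact (K827.Abs.resHU_res n F θ.hom x).symm
  rw [h2]
  exact h1

/-- Restriction to `Spec R/I`, `I` nilpotent. -/
theorem bijective_stage [IsIso a] (I : Ideal R) (k : ℕ) (hI : I ^ (k + 1) = ⊥) (G : Over X) [GrpObj G] [IsCommMonObj G]
    [Smooth G.hom] (n : ℕ) (hn : 1 ≤ n) :
    Function.Bijective (HRes.res Scheme.fppfPrecoverage (CGrpSh.pts Scheme.fppfPrecoverage G) n (ob a I)) := by
  have h0 : Function.Bijective (HRes.pull Scheme.fppfPrecoverage a
      (CGrpSh.pts Scheme.fppfPrecoverage G) n) := bijective_iso a _ n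
  have hsm : Smooth (Red.bc a G).hom := inferInstanceAs (Smooth (pullback.snd G.hom a))
  have h2 := HNil.pull_bijective k (Ideal.Quotient.mk I) Ideal.Quotient.mk_surjective (by rw [Ideal.mk_ker, hI])
    (Red.bc a G) n hn
  have h3 := HNil.pull_bijective_of_iso _ (K809.PtsPull.ptsPull Scheme.fppfPrecoverage a G) n h2
  exact HNil.pull_bijective_comp _ _ _ n h0 h3

/-- A finitely generated nil ideal is nilpotent. -/
theorem exists_pow {I : Ideal R} (hI : I.FG) (h : ∀ x ∈ I, IsNilpotent x) : ∃ k : ℕ, I ^ (k + 1) = ⊥ := by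
  obtain ⟨k, hk⟩ := (Ideal.FG.isNilpotent_iff_le_nilradical hI).2 fun x hx => h x hx
  refine ⟨k, ?_⟩
  rw [pow_succ, hk]
  exact zero_mul _

/-- **Restriction to the closed subscheme of a nil ideal.** -/
theorem bijective [IsIso a] (hN : ∀ x ∈ N, IsNilpotent x) (G : Over X) [GrpObj G] [IsCommMonObj G]
    [Smooth G.hom] (n : ℕ) (hn : 1 ≤ n) :
    Function.Bijective (HRes.res Scheme.fppfPrecoverage (CGrpSh.pts Scheme.fppfPrecoverage G) n (ob a N)) := by
  have hX : IsAffine X := .of_isIso (inv a)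
  obtain ⟨hc⟩ := nonempty_isLimit a N
  have hLP := K828.LpPts.lp_pts G Scheme.fppfPrecoverage
  have hst : ∀ I : Ix N, Function.Bijective
      (HRes.res Scheme.fppfPrecoverage (CGrpSh.pts Scheme.fppfPrecoverage G) n (ob a I.1)) := fun I => by
    obtain ⟨k, hk⟩ := exists_pow I.2.1 fun x hx => hN x (I.2.2 hx)
    exact bijective_stage a I.1 k hk G n hn
  constructor
  · rw [injective_iff_map_eq_zero]
    intro x hx
    let i : (Ix N)ᵒᵖ := op ⟨⊥, Submodule.fg_bot, bot_le⟩
    have h1 : HRes.resHU Scheme.fppfPrecoverage (CGrpSh.pts Scheme.fppfPrecoverage G) n ((cone a N).π.app i)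
        (HRes.res Scheme.fppfPrecoverage (CGrpSh.pts Scheme.fppfPrecoverage G) n ((D a N).obj i) x) = 0 := by
      rw [K827.Abs.resHU_res]
      exact hx
    obtain ⟨j, φ, hj⟩ := K828.LimitBig.exists_resHU_eq_zero hc
      (fun i => inferInstanceAs (IsAffine (Spec _))) (inferInstanceAs (IsAffine (Spec _))) hLP _ h1
    rw [K827.Abs.resHU_res] at hj
    exact (injective_iff_map_eq_zero _).1 (hst j.unop).1 x hj
  · intro y
    obtain ⟨i, z, hz⟩ := K828.LimitBig.exists_resHU hc
      (fun i => inferInstanceAs (IsAffine (Spec _))) (inferInstanceAs (IsAffine (Spec _))) hLP y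
    obtain ⟨x, rfl⟩ := (hst i.unop).2 z
    refine ⟨x, ?_⟩
    rw [← hz]
    exact (K827.Abs.resHU_res n _ ((cone a N).π.app i) x).symm

/-- **Restriction to `X_red`**, `X` affine. -/
theorem bijective_red {X : Scheme.{u}} [IsAffine X] (G : Over X) [GrpObj G] [IsCommMonObj G]
    [Smooth G.hom] (n : ℕ) (hn : 1 ≤ n) :
    Function.Bijective (HRes.res Scheme.fppfPrecoverage (CGrpSh.pts Scheme.fppfPrecoverage G) n
      (Over.mk X.nilradical.subschemeι)) := by
  let N : Ideal Γ(X, ⊤) := nilradical Γ(X, ⊤)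
  have h1 := bijective X.isoSpec.inv N (fun x hx => hx) G n hn
  have hred : IsReduced X.nilradical.subscheme := Groth.Agent.Ega1.ReducedSub.isReduced_subscheme_radical ⊥
  have hr2 : IsReduced (Spec (CommRingCat.of (Γ(X, ⊤) ⧸ N))) := by
    have : _root_.IsReduced (Γ(X, ⊤) ⧸ N) :=
      (Ideal.isRadical_iff_quotient_reduced N).1 (Ideal.radical_isRadical _)
    infer_instance
  have hcl : IsClosedImmersion (Spec.map (CommRingCat.ofHom (Ideal.Quotient.mk N))) :=
    IsClosedImmersion.spec_of_surjective _ Ideal.Quotient.mk_surjective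
  have hs : Surjective (Spec.map (CommRingCat.ofHom (Ideal.Quotient.mk N)) ≫ X.isoSpec.inv) := by
    have h : Surjective (Spec.map (CommRingCat.ofHom (Ideal.Quotient.mk N))) := by
      refine ⟨Set.range_eq_univ.1 ?_⟩
      change Set.range (PrimeSpectrum.comap (Ideal.Quotient.mk N)) = Set.univ
      rw [range_comap_of_surjective _ _ Ideal.Quotient.mk_surjective, Ideal.mk_ker]
      exact (PrimeSpectrum.zeroLocus_eq_univ_iff _).2 (fun x hx => hx)
    infer_instance
  obtain ⟨e, he⟩ := Groth.Agent.Ega1.ReducedSub.exists_iso_of_range_eq X.nilradical.subschemeι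
    (Spec.map (CommRingCat.ofHom (Ideal.Quotient.mk N)) ≫ X.isoSpec.inv) (by
      rw [Scheme.IdealSheafData.range_subschemeι, Set.range_eq_univ.2 hs.surj]
      rfl)
  let θ : Over.mk X.nilradical.subschemeι ≅ ob X.isoSpec.inv N := Over.isoMk e he
  have h2 := (K809.Chg.resHU_iso_bijective (CGrpSh.pts Scheme.fppfPrecoverage G) n θ).comp h1
  have h3 : (HRes.res Scheme.fppfPrecoverage (CGrpSh.pts Scheme.fppfPrecoverage G) n
      (Over.mk X.nilradical.subschemeι) : _ → _) =
      (HRes.resHU Scheme.fppfPrecoverage (CGrpSh.pts Scheme.fppfPrecoverage G) n θ.hom) ∘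
        (HRes.res Scheme.fppfPrecoverage (CGrpSh.pts Scheme.fppfPrecoverage G) n (ob X.isoSpec.inv N)) := by
    funext x
    exact (K827.Abs.resHU_res n _ θ.hom x).symm
  rw [h3]
  exact h2

end K731.NilLim
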